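import Groth.Agent.NodeModif7.Main
import Groth.Agent.TFQuot7.Basic
import Groth.Agent.NefCurve.RegPoints
import Groth.Agent.CurveCohLib.SubBundle

/-! Torsion free modules on integral curves between locally free ones. -/

set_option autoImplicit false
set_option linter.style.haveILetI false
set_option linter.unusedSectionVars false
set_option backward.isDefEq.respectTransparency false
set_option backward.isDefEq.respectTransparency.types false
set_option maxHeartbeats 1000000

universe u

noncomputable section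

open CategoryTheory CategoryTheory.Limits AlgebraicGeometry TopologicalSpace IsLocalRing Opposite

namespace Groth.Agent.CurvFree7

open Groth.Agent

section Alg

variable {A : Type u} [CommRing A] [IsDomain A]

/-- A free submodule with torsion quotient. -/
theorem exists_free_torsion (M : Type u) [AddCommGroup M] [Module A M] :
    ∃ N : Submodule A M, Module.Free A N ∧ ∀ m : M, ∃ a : A, a ≠ 0 ∧ a • m ∈ N := by
  obtain ⟨s, hs, hmax⟩ := exists_maximal_linearIndepOn (R := A) (id : M → M)
  refine ⟨Submodule.span A s, ?_, fun m => ?_⟩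
  · refine Module.Free.of_equiv' (Module.Free.of_basis (Module.Basis.span hs.linearIndependent))
      (LinearEquiv.ofEq _ _ ?_)
    congr 1
    ext y; simp
  · by_cases hm : m ∈ s
    · exact ⟨1, one_ne_zero, by rw [one_smul]; exact Submodule.subset_span hm⟩
    · obtain ⟨a, ha, h⟩ := hmax m hm
      exact ⟨a, ha, by simpa using h⟩

/-- In a one-dimensional local domain torsion modules are killed by powers of the maximal ideal, elementwise. -/
theorem tors_quotient [IsLocalRing A] (hdim : ringKrullDim A ≤ 1) {M : Type u} [AddCommGroup M] [Module A M]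
    (N : Submodule A M) (h : ∀ m : M, ∃ a : A, a ≠ 0 ∧ a • m ∈ N) : CycK.Tors (R := A) (M ⧸ N) := by
  intro f hf t
  obtain ⟨m, rfl⟩ := Submodule.mkQ_surjective _ t
  obtain ⟨a, ha, ham⟩ := h m
  have hrad : f ∈ (Ideal.span {a}).radical := by
    rw [Ideal.radical_eq_sInf, Ideal.mem_sInf]
    rintro P ⟨haP, hP⟩
    haveI := hP
    haveI : Ring.KrullDimLE 1 A := Ring.krullDimLE_iff.2 hdim
    have hne : P ≠ ⊥ := fun h0 => ha (by
      have := haP (Ideal.mem_span_singleton_self a)
      rwa [h0, Ideal.mem_bot] at this)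
    haveI := Ideal.isMaximal_of_isPrime_of_ne_bot P hne
    rw [IsLocalRing.eq_maximalIdeal (I := P) inferInstance]
    exact hf
  obtain ⟨n, hn⟩ := hrad
  obtain ⟨b, hb⟩ := Ideal.mem_span_singleton'.1 hn
  refine ⟨n, ?_⟩
  rw [Submodule.mkQ_apply, ← Submodule.Quotient.mk_smul, Submodule.Quotient.mk_eq_zero, ← hb, mul_smul]
  exact Submodule.smul_mem _ _ ham

end Alg

variable {X : Scheme.{u}} [IsIntegral X] [IsLocallyNoetherian X]

theorem eq_genericPoint {y : X} (hy : IsField (X.presheaf.stalk y)) : y = genericPoint X :=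
  (TFCurvLib.eq_of_specializes_of_isField hy (genericPoint_specializes y)).symm

/-- A coherent torsion free module contains a module with free stalks which agrees with it off a finite set
containing the points with non-principal local rings. -/
theorem exists_free_sub {F : X.Modules} (hF : Coh.IsCoh F) (hFt : TorSh.IsTorsionFree F) (s : Finset X)
    (hs : ∀ x ∈ s, IsClosed ({x} : Set X)) (hd : ∀ x ∈ s, ringKrullDim (X.presheaf.stalk x) ≤ 1)
    (hpid : ∀ x ∉ s, IsPrincipalIdealRing (X.presheaf.stalk x)) :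
    ∃ (H : X.Modules) (ι : H ⟶ F), Mono ι ∧ Coh.IsCoh H ∧ FlatMod.IsFinLocFree H ∧
      ∀ y ∉ s, Function.Bijective (RefHull.stalkMapₗ ι y) := by
  classical
  let N : ∀ x, Submodule (X.presheaf.stalk x) (F.presheaf.stalk x) :=
    fun x => (exists_free_torsion (A := X.presheaf.stalk x) (F.presheaf.stalk x)).choose
  have hN : ∀ x, Module.Free (X.presheaf.stalk x) (N x) ∧
      ∀ m : F.presheaf.stalk x, ∃ a : X.presheaf.stalk x, a ≠ 0 ∧ a • m ∈ N x :=
    fun x => (exists_free_torsion (A := X.presheaf.stalk x) (F.presheaf.stalk x)).choose_spec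
  obtain ⟨H, ι, hH, hinj, hr, hb⟩ := NodeModif7.exists_finSub hF s hs N
    fun x hx => tors_quotient (hd x hx) _ (hN x).2
  haveI : Mono ι := HomShX.mono_of_stalk ι hinj
  refine ⟨H, ι, inferInstance, hH, QCoh.isFinLocFree_iff.2 ⟨QCoh.isCoh_iff_isFP.1 hH, fun x => ?_⟩, hb⟩
  by_cases hx : x ∈ s
  · haveI := (hN x).1
    exact Module.Free.of_equiv ((LinearEquiv.ofInjective _ (hinj x)).trans (LinearEquiv.ofEq _ _ (hr x hx))).symm
  · haveI := hpid x hx
    haveI : Module.IsTorsionFree (X.presheaf.stalk x) (F.presheaf.stalk x) := hFt x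
    haveI : Module.Finite (X.presheaf.stalk x) (F.presheaf.stalk x) :=
      QCoh.finite_stalk_of_isFT hF.1 (QCoh.isFT_of_isFP (QCoh.isCoh_iff_isFP.1 hF)) x
    haveI : Module.Free (X.presheaf.stalk x) (F.presheaf.stalk x) := Module.free_of_finite_type_torsion_free'
    exact Module.Free.of_equiv (LinearEquiv.ofBijective _ (hb x hx)).symm

theorem isTorsionFree_dual {F : X.Modules} (hF : Coh.IsCoh F) : TorSh.IsTorsionFree (RefHull.dual F) := fun x =>
  (RefX.dualStalk (QCoh.isCoh_iff_isFP.1 hF) x).injective.moduleIsTorsionFree _ (fun r m => map_smul _ r m)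

/-- A coherent torsion free module lies between locally free modules of its rank, equal to it off a finite set
containing the points with non-principal local rings. -/
theorem exists_sub_super {F : X.Modules} (hF : Coh.IsCoh F) (hFt : TorSh.IsTorsionFree F) (n : ℕ)
    (hn : Module.finrank (X.presheaf.stalk (genericPoint X)) (F.presheaf.stalk (genericPoint X)) = n) (s : Finset X)
    (hs : ∀ x ∈ s, IsClosed ({x} : Set X)) (hd : ∀ x ∈ s, ringKrullDim (X.presheaf.stalk x) ≤ 1)
    (hη : genericPoint X ∉ s) (hpid : ∀ x ∉ s, IsPrincipalIdealRing (X.presheaf.stalk x)) :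
    (∃ (E : X.Modules) (i : E ⟶ F), FlatMod.IsFinLocFreeOfRank n E ∧ Mono i ∧
      ∀ y ∉ s, Function.Surjective (RefHull.stalkMapₗ i y)) ∧
    (∃ (E : X.Modules) (j : F ⟶ E), FlatMod.IsFinLocFreeOfRank n E ∧ Mono j ∧
      ∀ y ∉ s, Function.Surjective (RefHull.stalkMapₗ j y)) := by
  classical
  have hFfp := QCoh.isCoh_iff_isFP.1 hF
  have hfree : ∀ y ∉ s, Module.Free (X.presheaf.stalk y) (F.presheaf.stalk y) ∧
      Module.Finite (X.presheaf.stalk y) (F.presheaf.stalk y) := fun y hy => by
    haveI := hpid y hy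
    haveI : Module.IsTorsionFree (X.presheaf.stalk y) (F.presheaf.stalk y) := hFt y
    haveI : Module.Finite (X.presheaf.stalk y) (F.presheaf.stalk y) :=
      QCoh.finite_stalk_of_isFT hF.1 (QCoh.isFT_of_isFP hFfp) y
    exact ⟨Module.free_of_finite_type_torsion_free', inferInstance⟩
  constructor
  · obtain ⟨H, ι, hι, hH, hfr, hb⟩ := exists_free_sub hF hFt s hs hd hpid
    have hrk : CurveCohLib.genRank H = n := ((LinearEquiv.ofBijective _ (hb _ hη)).finrank_eq).trans hn
    exact ⟨H, ι, hrk ▸ CurveCohLib.isFinLocFreeOfRank_genRank hfr, hι, fun y hy => (hb y hy).2⟩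
  · obtain ⟨H, ι, hι, hH, hfr, hb⟩ := exists_free_sub (RefX.isCoh_dual hF) (isTorsionFree_dual hF) s hs hd hpid
    have hHfp := QCoh.isCoh_iff_isFP.1 hH
    let j : F ⟶ RefHull.dual H := RefHull.bidualMap F ≫ HomShX.prec _ ι
    let ev : ∀ x, H.presheaf.stalk x →ₗ[X.presheaf.stalk x] Module.Dual (X.presheaf.stalk x) (F.presheaf.stalk x) :=
      fun x => (RefX.dualStalk hFfp x).toLinearMap.comp (RefHull.stalkMapₗ ι x)
    have hj : ∀ x v θ, RefX.dualStalk hHfp x (RefHull.stalkMapₗ j x v) θ = ev x θ v := fun x v θ => by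
      show (RefX.unitStalk x).symm (RefHull.evalStalk H _ x (RefHull.stalkMapₗ j x v) θ) =
        (RefX.unitStalk x).symm (RefHull.evalStalk F _ x (RefHull.stalkMapₗ ι x θ) v)
      rw [HomShX.stalkMapₗ_comp, LinearMap.comp_apply, HomShX.evalStalk_prec, LinearMap.comp_apply]
      congr 1
      obtain ⟨U, hx, m, rfl⟩ := TopCat.Presheaf.exists_germ_eq F.presheaf v
      rw [RefHull.stalkMapₗ_germ, RefHull.evalStalk_germ, RefHull.bidualMap_app_apply]
      rfl
    have hbij : ∀ y ∉ s, Function.Bijective (RefHull.stalkMapₗ j y) := fun y hy => by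
      obtain ⟨h1, h2⟩ := hfree y hy
      haveI := h1; haveI := h2
      let e : H.presheaf.stalk y ≃ₗ[X.presheaf.stalk y] Module.Dual (X.presheaf.stalk y) (F.presheaf.stalk y) :=
        LinearEquiv.ofBijective (ev y) ((RefX.dualStalk hFfp y).bijective.comp (hb y hy))
      have he : ⇑(RefHull.stalkMapₗ j y) =
          ⇑((Module.evalEquiv (X.presheaf.stalk y) (F.presheaf.stalk y)).trans
            (e.dualMap.trans (RefX.dualStalk hHfp y).symm)) := funext fun v => by
        refine (RefX.dualStalk hHfp y).injective (LinearMap.ext fun θ => ?_)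
        rw [hj]
        simp [e]
      rw [he]
      exact LinearEquiv.bijective _
    have hG := RefX.isCoh_dual hH
    have hGf : FlatMod.IsFinLocFree (RefHull.dual H) := QCoh.isFinLocFree_iff.2 ⟨QCoh.isCoh_iff_isFP.1 hG, fun x => by
      haveI := QCoh.free_stalk_of_isFinLocFree hfr x
      haveI : Module.Finite (X.presheaf.stalk x) (H.presheaf.stalk x) :=
        QCoh.finite_stalk_of_isFT hH.1 (QCoh.isFT_of_isFP hHfp) x
      exact Module.Free.of_equiv (RefX.dualStalk hHfp x).symm⟩
    have hrk : CurveCohLib.genRank (RefHull.dual H) = n :=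
      ((LinearEquiv.ofBijective _ (hbij _ hη)).finrank_eq).symm.trans hn
    refine ⟨RefHull.dual H, j, hrk ▸ CurveCohLib.isFinLocFreeOfRank_genRank hGf, ?_, fun y hy => (hbij y hy).2⟩
    refine Preadditive.mono_of_kernel_zero ((TFQuot7.det_of_tf hF.1 hFt).hom_eq_zero _ fun y hf v => ?_)
    have hy : y ∉ s := by rw [eq_genericPoint hf]; exact hη
    refine (hbij y hy).1 ?_
    rw [map_zero]
    show RefHull.stalkMapₗ j y (RefHull.stalkMapₗ (kernel.ι j) y v) = 0
    rw [← LinearMap.comp_apply, ← HomShX.stalkMapₗ_comp, kernel.condition]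
    exact LinearMap.congr_fun (CycK.sl_zero y) v

end Groth.Agent.CurvFree7
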